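import Cfsg.Agent.Lib.FrobThm.Basic
import Mathlib

/-! A Frobenius group acting on an abelian group, coprimely to the kernel, with no fixed points of the kernel:
the complement has nontrivial fixed points. -/

set_option autoImplicit false

namespace Cfsg.Agent.Lib.PLocal

open Cfsg
open scoped Pointwise

theorem frobenius_fixed_aux {F V : Type*} [Group F] [Finite F] [CommGroup V] [Finite V] (ρ : F →* MulAut V)
    (H N : Subgroup F) (hH : IsFrobeniusComplement H) (hNset : (N : Set F) = frobeniusKernel H)
    (hc : Subgroup.IsComplement' N H) (hcop : (Nat.card V).Coprime (Nat.card N))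
    (hCN : ∀ v : V, (∀ n ∈ N, ρ n v = v) → v = 1) (hCH : ∀ v : V, (∀ h ∈ H, ρ h v = v) → v = 1) (v : V) : v = 1 := by
  classical
  haveI := Fintype.ofFinite F
  haveI : Fintype N := Fintype.ofFinite N
  haveI : Fintype H := Fintype.ofFinite H
  have hrho : ∀ (f : F) {ι : Type _} (s : Finset ι) (g : ι → V), ρ f (∏ i ∈ s, g i) = ∏ i ∈ s, ρ f (g i) :=
    fun f _ s g => map_prod (ρ f) g s
  let T : V → V := fun w => ∏ h : H, ρ (h : F) w
  have hT : ∀ w, T w = 1 := by
    intro w
    apply hCH
    intro x hx
    simp only [T]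
    rw [hrho]
    refine Fintype.prod_equiv (Equiv.mulLeft (⟨x, hx⟩ : H)) _ _ fun c => ?_
    simp [map_mul]
  have hA : (∏ f : F, ρ f v) = 1 := by
    apply hCH
    intro x _
    rw [hrho]
    refine Fintype.prod_equiv (Equiv.mulLeft x) _ _ fun c => ?_
    simp [map_mul]
  have hB : (∏ n : N, ρ (n : F) v) = 1 := by
    apply hCN
    intro x hx
    rw [hrho]
    refine Fintype.prod_equiv (Equiv.mulLeft (⟨x, hx⟩ : N)) _ _ fun c => ?_
    simp [map_mul]
  have hdisj : ∀ x, x ∈ N → x ∈ H → x = 1 := fun x h1 h2 =>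
    Subgroup.disjoint_def.mp hc.disjoint h1 h2
  -- the product over pairs
  have hprod : (∏ k : N, ∏ h : H, ρ ((k : F) * (h : F) * (k : F)⁻¹) v) = 1 := by
    refine Finset.prod_eq_one fun k _ => ?_
    have h1 : (∏ h : H, ρ ((k : F) * (h : F) * (k : F)⁻¹) v) = ρ (k : F) (T (ρ (k : F)⁻¹ v)) := by
      simp only [T]
      rw [hrho]
      refine Finset.prod_congr rfl fun h _ => ?_
      simp [map_mul]
    rw [h1, hT, map_one]
  -- reorganize
  have hsplit : (∏ p : N × H, ρ ((p.1 : F) * (p.2 : F) * (p.1 : F)⁻¹) v) =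
      v ^ Nat.card N * ∏ f ∈ Finset.univ.filter (fun f : F => f ∉ N), ρ f v := by
    rw [← Finset.prod_filter_mul_prod_filter_not Finset.univ (fun p : N × H => p.2 = 1)]
    congr 1
    · have h2 : (Finset.univ.filter (fun p : N × H => p.2 = 1)) = Finset.univ.image (fun k : N => (k, (1 : H))) := by
        ext ⟨a, b⟩
        simp [eq_comm]
      rw [h2, Finset.prod_image (fun a _ b _ h => (Prod.ext_iff.mp h).1)]
      have h3 : ∀ k : N, ρ ((k : F) * ((1 : H) : F) * (k : F)⁻¹) v = v := fun k => by simp
      simp only [h3, Finset.prod_const, Finset.card_univ, Nat.card_eq_fintype_card]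
    · refine Finset.prod_bij (fun p _ => (p.1 : F) * (p.2 : F) * (p.1 : F)⁻¹) ?_ ?_ ?_ ?_
      · rintro ⟨k, h⟩ hp
        have hh1 : h ≠ 1 := (Finset.mem_filter.mp hp).2
        rw [Finset.mem_filter]
        refine ⟨Finset.mem_univ _, fun hmem => hh1 ?_⟩
        have hN : (h : F) ∈ N := by
          have := N.mul_mem (N.mul_mem (N.inv_mem k.2) hmem) k.2
          simpa [mul_assoc] using this
        exact Subtype.ext (hdisj _ hN h.2)
      · rintro ⟨k, h⟩ hp ⟨k', h'⟩ hp' he
        have hh1 : h ≠ 1 := (Finset.mem_filter.mp hp).2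
        simp only at he
        -- `(k'⁻¹ k) h (k'⁻¹ k)⁻¹ = h'`
        set g : F := (k' : F)⁻¹ * k with hg
        have hgN : g ∈ N := N.mul_mem (N.inv_mem k'.2) k.2
        have h4 : g * h * g⁻¹ = h' := by
          have : (k' : F) * (g * h * g⁻¹) * (k' : F)⁻¹ = (k' : F) * h' * (k' : F)⁻¹ := by
            rw [← he, hg]; group
          exact mul_left_cancel (mul_right_cancel this)
        have hgH : g ∈ H := by
          by_contra hgH
          have h6 := hH.2.2 g hgH
          have h7 : (h' : F) ∈ H ⊓ (MulAut.conj g • H) := by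
            refine Subgroup.mem_inf.mpr ⟨h'.2, Cfsg.Agent.Lib.Core.mem_conj_smul_iff.mpr ?_⟩
            rw [← h4]
            simpa [mul_assoc] using h.2
          rw [h6, Subgroup.mem_bot] at h7
          apply hh1
          have h8 : g * (h : F) * g⁻¹ = 1 := by rw [h4, h7]
          have h9 : (h : F) = 1 := by
            have := congrArg (fun x => g⁻¹ * x * g) h8
            simpa [mul_assoc] using this
          exact Subtype.ext h9
        have hg1 : g = 1 := hdisj g hgN hgH
        have hkk : k = k' := by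
          apply Subtype.ext
          have := hg1
          rw [hg] at this
          exact (inv_mul_eq_one.mp this).symm
        subst hkk
        have hhh : h = h' := by
          apply Subtype.ext
          rw [hg1] at h4
          simpa using h4
        rw [hhh]
      · intro f hf
        have hfN : f ∉ N := (Finset.mem_filter.mp hf).2
        have hfk : f ∉ frobeniusKernel H := by
          rw [← hNset]; exact hfN
        have hf1 : f ≠ 1 := fun h => hfN (h ▸ one_mem _)
        simp only [frobeniusKernel, Set.mem_ofPred_eq, not_or, not_forall, not_not] at hfk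
        obtain ⟨-, g, hg⟩ := hfk
        have hh : g⁻¹ * f * g ∈ H := Cfsg.Agent.Lib.Core.mem_conj_smul_iff.mp hg
        set h : F := g⁻¹ * f * g with hhdef
        have he : g * h * g⁻¹ = f := by rw [hhdef]; group
        obtain ⟨⟨⟨k, hk⟩, ⟨h₀, hh₀⟩⟩, hkh⟩ := hc.existsUnique g |>.exists
        have hg' : g = k * h₀ := hkh.symm
        refine ⟨(⟨k, hk⟩, ⟨h₀ * h * h₀⁻¹, H.mul_mem (H.mul_mem hh₀ hh) (H.inv_mem hh₀)⟩), ?_, ?_⟩
        · rw [Finset.mem_filter]
          refine ⟨Finset.mem_univ _, fun h1 => hf1 ?_⟩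
          have h2 : h₀ * h * h₀⁻¹ = 1 := congrArg Subtype.val h1
          have h3 : h = 1 := by
            have := congrArg (fun x => h₀⁻¹ * x * h₀) h2
            simpa [mul_assoc] using this
          rw [← he, h3]
          simp
        · rw [← he, hg']
          simp [mul_assoc]
      · intro _ _
        rfl
  have hF : (∏ f ∈ Finset.univ.filter (fun f : F => f ∉ N), ρ f v) = 1 := by
    have h1 := Finset.prod_filter_mul_prod_filter_not Finset.univ (fun f : F => f ∈ N) (fun f => ρ f v)
    have h2 : (∏ f ∈ Finset.univ.filter (fun f : F => f ∈ N), ρ f v) = ∏ n : N, ρ (n : F) v :=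
      Finset.prod_subtype _ (fun x => by simp) _
    rw [h2, hB, one_mul, hA] at h1
    exact h1
  have hv : v ^ Nat.card N = 1 := by
    have h1 : (∏ p : N × H, ρ ((p.1 : F) * (p.2 : F) * (p.1 : F)⁻¹) v) = 1 := by
      rw [Fintype.prod_prod_type]
      exact hprod
    rw [hsplit, hF, mul_one] at h1
    exact h1
  have h2 : orderOf v ∣ Nat.card N := orderOf_dvd_of_pow_eq_one hv
  have h3 : orderOf v ∣ Nat.card V := orderOf_dvd_natCard v
  have h4 := Nat.Coprime.eq_one_of_dvd (hcop.coprime_dvd_left h3) h2
  exact orderOf_eq_one_iff.mp h4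

theorem frobenius_fixed {G : Type*} [Group G] [Finite G] (V F : Subgroup G) (hVab : IsMulCommutative V) (hV1 : V ≠ ⊥)
    (hFV : F ≤ Subgroup.normalizer (V : Set G)) (H : Subgroup ↥F) (hH : IsFrobeniusComplement H)
    (hcop : (Nat.card V).Coprime (Nat.card (frobeniusKernel H)))
    (hCK : V ⊓ Subgroup.centralizer (Subtype.val '' frobeniusKernel H : Set G) = ⊥) :
    V ⊓ Subgroup.centralizer ((H.map F.subtype : Subgroup G) : Set G) ≠ ⊥ := by
  obtain ⟨N, hNset, -, hc⟩ := FrobThm.frobenius_theorem H hH
  letI : CommGroup V := { (inferInstance : Group V) with mul_comm := fun x y => hVab.is_comm.comm x y }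
  let ρ : F →* MulAut V := (Subgroup.normalizerMonoidHom V).comp (Subgroup.inclusion hFV)
  have hρ : ∀ (a : F) (v : V), ((ρ a v : V) : G) = a * v * (a : G)⁻¹ := fun a v => rfl
  have hcop' : (Nat.card V).Coprime (Nat.card N) := by
    rw [← hNset] at hcop
    exact hcop
  intro hbot
  have key : ∀ v : V, v = 1 := by
    intro v
    refine frobenius_fixed_aux ρ H N hH hNset hc hcop' ?_ ?_ v
    · intro w hw
      have h1 : (w : G) ∈ V ⊓ Subgroup.centralizer (Subtype.val '' frobeniusKernel H : Set G) := by
        refine Subgroup.mem_inf.mpr ⟨w.2, Subgroup.mem_centralizer_iff.mpr ?_⟩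
        rintro _ ⟨n, hn, rfl⟩
        have hnN : n ∈ N := by
          have : n ∈ (N : Set F) := by rw [hNset]; exact hn
          exact this
        have h2 := congrArg (Subtype.val) (hw n hnN)
        rw [hρ] at h2
        have h3 : (n : G) * w = w * n := by
          rw [← mul_left_inj ((n : G)⁻¹), h2, mul_inv_cancel_right]
        exact h3
      rw [hCK, Subgroup.mem_bot] at h1
      exact Subtype.ext h1
    · intro w hw
      have h1 : (w : G) ∈ V ⊓ Subgroup.centralizer ((H.map F.subtype : Subgroup G) : Set G) := by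
        refine Subgroup.mem_inf.mpr ⟨w.2, Subgroup.mem_centralizer_iff.mpr ?_⟩
        rintro _ ⟨n, hnN, rfl⟩
        have h2 := congrArg (Subtype.val) (hw n hnN)
        rw [hρ] at h2
        have h3 : (n : G) * w = w * n := by
          rw [← mul_left_inj ((n : G)⁻¹), h2, mul_inv_cancel_right]
        exact h3
      rw [hbot, Subgroup.mem_bot] at h1
      exact Subtype.ext h1
  apply hV1
  rw [eq_bot_iff]
  intro x hx
  have := key ⟨x, hx⟩
  exact Subgroup.mem_bot.mpr (congrArg Subtype.val this)

end Cfsg.Agent.Lib.PLocal
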